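import Cfsg.Agent.H671.H5Facts
import Cfsg.Agent.SmallSimple.DegreeData

/-!
# The degree graph from a list of clauses (helper653)

A clause is a list of numbers one of which divides some degree. `facts` derives from a list of clauses, by a
decidable check, that the degree graph is connected, has no three pairwise nonadjacent vertices, and has a triangle.
-/

set_option autoImplicit false

namespace Cfsg.Agent.H653.Graph

open Cfsg Cfsg.Agent.H671.H5

universe u

/-- Some number of the list divides some degree. -/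
def Cl (S : Type u) [Group S] (c : List ℕ) : Prop := ∃ m ∈ c, ∃ χ : IrrCharacter S, m ∣ charDegree (χ : S → ℂ)

/-- The three facts on the degree graph. -/
structure GraphFacts (S : Type u) [Group S] : Prop where
  conn : ((degreeGraph S).induce (degreePrimes S)).Connected
  ind : ∀ p ∈ degreePrimes S, ∀ q ∈ degreePrimes S, ∀ r ∈ degreePrimes S, p ≠ q → q ≠ r → p ≠ r →
    Adj p q S ∨ Adj q r S ∨ Adj p r S
  tri : ∃ p q r : ℕ, Adj p q S ∧ Adj q r S ∧ Adj p r S

theorem Cl.mono {S : Type u} [Group S] {c d : List ℕ} (h : Cl S c) (hcd : ∀ m ∈ c, ∃ n ∈ d, n ∣ m) : Cl S d := by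
  obtain ⟨m, hm, χ, hχ⟩ := h
  obtain ⟨n, hn, hnm⟩ := hcd m hm
  exact ⟨n, hn, χ, hnm.trans hχ⟩

theorem Cl.of_deg {S : Type u} [Group S] {d : ℕ} (h : ∃ χ : IrrCharacter S, charDegree (χ : S → ℂ) = d) : Cl S [d] := by
  obtain ⟨χ, hχ⟩ := h
  exact ⟨d, by simp, χ, hχ ▸ dvd_refl _⟩

/-- all the numbers of some clause have the property -/
def some (E : List (List ℕ)) (f : ℕ → Bool) : Bool := E.any fun c => c.all f

theorem some_spec {S : Type u} [Group S] {E : List (List ℕ)} (hE : ∀ c ∈ E, Cl S c) {f : ℕ → Bool}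
    (h : some E f = true) : ∃ m, f m = true ∧ ∃ χ : IrrCharacter S, m ∣ charDegree (χ : S → ℂ) := by
  rw [some, List.any_eq_true] at h
  obtain ⟨c, hc, hf⟩ := h
  rw [List.all_eq_true] at hf
  obtain ⟨m, hm, χ, hχ⟩ := hE c hc
  exact ⟨m, hf m hm, χ, hχ⟩

def dv (a m : ℕ) : Bool := Nat.beq (m % a) 0

theorem dv_spec {a m : ℕ} (h : dv a m = true) : a ∣ m := Nat.dvd_of_mod_eq_zero (Nat.eq_of_beq_eq_true h)

def chkIM (P : List ℕ) (E : List (List ℕ)) : Bool := P.all fun p => some E (dv p)

def chkInd (P : List ℕ) (E : List (List ℕ)) : Bool :=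
  P.all fun p => P.all fun q => Nat.ble q p || P.all fun r => Nat.ble r q ||
    some E fun m => dv (p * q) m || dv (q * r) m || dv (p * r) m

def chkTri (P : List ℕ) (E : List (List ℕ)) : Bool :=
  (P.any fun p => P.any fun q => !Nat.ble q p && P.any fun r => !Nat.ble r q &&
    (some E (dv (p * q)) && some E (dv (q * r)) && some E (dv (p * r)))) ||
  some E fun m => P.any fun p => dv p m && P.any fun q => !Nat.ble q p && dv q m && P.any fun r => !Nat.ble r q && dv r m

/-- every vertex is adjacent to an earlier one -/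
def chkOrd (E : List (List ℕ)) : List ℕ → List ℕ → Bool
  | _, [] => true
  | a, p :: P => (a.any fun q => some E (dv (p * q))) && chkOrd E (p :: a) P

/-- every cut is crossed by some clause -/
def chkCut (P : List ℕ) (E : List (List ℕ)) : Bool :=
  match P with
  | [] => false
  | p :: P' => P'.sublists.all fun A =>
      Nat.beq A.length P'.length || some E fun m => ((p :: A).any fun a => dv a m) && P'.any fun b => !A.contains b && dv b m

section

variable {S : Type u} [Group S] {P : List ℕ} {E : List (List ℕ)}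

theorem adj_of {p q m : ℕ} (hp : p.Prime) (hq : q.Prime) (hpq : p ≠ q) (h1 : p ∣ m) (h2 : q ∣ m)
    (h : ∃ χ : IrrCharacter S, m ∣ charDegree (χ : S → ℂ)) : Adj p q S := by
  obtain ⟨χ, hχ⟩ := h
  rw [adj_iff]
  exact ⟨hpq, hp, hq, χ, (Nat.Coprime.mul_dvd_of_dvd_of_dvd ((Nat.coprime_primes hp hq).2 hpq) h1 h2).trans hχ⟩

theorem mem_of_chk (hP : ∀ p ∈ P, p.Prime) (hS : ∀ p, p.Prime → p ∣ Nat.card S → p ∈ P) [Finite S]
    (hE : ∀ c ∈ E, Cl S c) (h : chkIM P E = true) (p : ℕ) : p ∈ degreePrimes S ↔ p ∈ P := by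
  rw [mem_degreePrimes]
  constructor
  · rintro ⟨hp, χ, hχ⟩
    exact hS p hp (hχ.trans (Blocks.Knorr.charDegree_dvd χ.2))
  · intro hp
    refine ⟨hP p hp, ?_⟩
    rw [chkIM, List.all_eq_true] at h
    obtain ⟨m, hm, χ, hχ⟩ := some_spec hE (h p hp)
    exact ⟨χ, (dv_spec hm).trans hχ⟩

theorem ind_of_chk (hP : ∀ p ∈ P, p.Prime) (hE : ∀ c ∈ E, Cl S c) (h : chkInd P E = true) :
    ∀ p ∈ P, ∀ q ∈ P, ∀ r ∈ P, p ≠ q → q ≠ r → p ≠ r → Adj p q S ∨ Adj q r S ∨ Adj p r S := by
  have key : ∀ p ∈ P, ∀ q ∈ P, ∀ r ∈ P, p < q → q < r → Adj p q S ∨ Adj q r S ∨ Adj p r S := by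
    intro p hp q hq r hr hpq hqr
    rw [chkInd, List.all_eq_true] at h
    have h1 := h p hp
    rw [List.all_eq_true] at h1
    have h2 := h1 q hq
    have e1 : Nat.ble q p = false := by rw [Bool.eq_false_iff]; intro h3; have := Nat.le_of_ble_eq_true h3; omega
    rw [e1, Bool.false_or, List.all_eq_true] at h2
    have h3 := h2 r hr
    have e2 : Nat.ble r q = false := by rw [Bool.eq_false_iff]; intro h3; have := Nat.le_of_ble_eq_true h3; omega
    rw [e2, Bool.false_or] at h3
    obtain ⟨m, hm, hχ⟩ := some_spec hE h3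
    simp only [Bool.or_eq_true] at hm
    rcases hm with (hm | hm) | hm
    · have := dv_spec hm
      exact Or.inl (adj_of (hP p hp) (hP q hq) hpq.ne ((dvd_mul_right _ _).trans this) ((dvd_mul_left _ _).trans this) hχ)
    · have := dv_spec hm
      exact Or.inr (Or.inl (adj_of (hP q hq) (hP r hr) hqr.ne ((dvd_mul_right _ _).trans this)
        ((dvd_mul_left _ _).trans this) hχ))
    · have := dv_spec hm
      exact Or.inr (Or.inr (adj_of (hP p hp) (hP r hr) (hpq.trans hqr).ne ((dvd_mul_right _ _).trans this)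
        ((dvd_mul_left _ _).trans this) hχ))
  have sym : ∀ {a b : ℕ}, Adj a b S → Adj b a S := fun h => SimpleGraph.Adj.symm h
  intro p hp q hq r hr hpq hqr hpr
  rcases lt_or_gt_of_ne hpq with a | a <;> rcases lt_or_gt_of_ne hqr with b | b <;> rcases lt_or_gt_of_ne hpr with c | c
  · exact key p hp q hq r hr a b
  · omega
  · rcases key p hp r hr q hq c b with h | h | h
    · exact Or.inr (Or.inr h)
    · exact Or.inr (Or.inl (sym h))
    · exact Or.inl h
  · rcases key r hr p hp q hq c a with h | h | h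
    · exact Or.inr (Or.inr (sym h))
    · exact Or.inl h
    · exact Or.inr (Or.inl (sym h))
  · rcases key q hq p hp r hr a c with h | h | h
    · exact Or.inl (sym h)
    · exact Or.inr (Or.inr h)
    · exact Or.inr (Or.inl h)
  · rcases key q hq r hr p hp b c with h | h | h
    · exact Or.inr (Or.inl h)
    · exact Or.inr (Or.inr (sym h))
    · exact Or.inl (sym h)
  · omega
  · rcases key r hr q hq p hp b a with h | h | h
    · exact Or.inr (Or.inl (sym h))
    · exact Or.inl (sym h)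
    · exact Or.inr (Or.inr (sym h))

theorem tri_of_chk (hP : ∀ p ∈ P, p.Prime) (hE : ∀ c ∈ E, Cl S c) (h : chkTri P E = true) :
    ∃ p q r : ℕ, Adj p q S ∧ Adj q r S ∧ Adj p r S := by
  rw [chkTri, Bool.or_eq_true] at h
  rcases h with h | h
  · rw [List.any_eq_true] at h
    obtain ⟨p, hp, h⟩ := h
    rw [List.any_eq_true] at h
    obtain ⟨q, hq, h⟩ := h
    rw [Bool.and_eq_true] at h
    obtain ⟨hpq, h⟩ := h
    rw [List.any_eq_true] at h
    obtain ⟨r, hr, h⟩ := h
    simp only [Bool.and_eq_true] at h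
    obtain ⟨hqr, ⟨h1, h2⟩, h3⟩ := h
    have hpq' : p < q := by
      by_contra hc
      rw [Nat.ble_eq_true_of_le (by omega : q ≤ p)] at hpq
      exact Bool.false_ne_true hpq
    have hqr' : q < r := by
      by_contra hc
      rw [Nat.ble_eq_true_of_le (by omega : r ≤ q)] at hqr
      exact Bool.false_ne_true hqr
    have go : ∀ {a b : ℕ}, a ∈ P → b ∈ P → a ≠ b → some E (dv (a * b)) = true → Adj a b S := by
      intro a b ha hb hab hs
      obtain ⟨m, hm, hχ⟩ := some_spec hE hs
      have := dv_spec hm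
      exact adj_of (hP a ha) (hP b hb) hab ((dvd_mul_right _ _).trans this) ((dvd_mul_left _ _).trans this) hχ
    exact ⟨p, q, r, go hp hq hpq'.ne h1, go hq hr hqr'.ne h2, go hp hr (hpq'.trans hqr').ne h3⟩
  · obtain ⟨m, hm, hχ⟩ := some_spec hE h
    rw [List.any_eq_true] at hm
    obtain ⟨p, hp, hm⟩ := hm
    rw [Bool.and_eq_true, List.any_eq_true] at hm
    obtain ⟨hpm, q, hq, hm⟩ := hm
    simp only [Bool.and_eq_true] at hm
    obtain ⟨⟨hpq, hqm⟩, hm⟩ := hm
    rw [List.any_eq_true] at hm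
    obtain ⟨r, hr, hm⟩ := hm
    rw [Bool.and_eq_true] at hm
    obtain ⟨hqr, hrm⟩ := hm
    have hpq' : p < q := by
      by_contra hc
      rw [Nat.ble_eq_true_of_le (by omega : q ≤ p)] at hpq
      exact Bool.false_ne_true hpq
    have hqr' : q < r := by
      by_contra hc
      rw [Nat.ble_eq_true_of_le (by omega : r ≤ q)] at hqr
      exact Bool.false_ne_true hqr
    exact ⟨p, q, r, adj_of (hP p hp) (hP q hq) hpq'.ne (dv_spec hpm) (dv_spec hqm) hχ,
      adj_of (hP q hq) (hP r hr) hqr'.ne (dv_spec hqm) (dv_spec hrm) hχ,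
      adj_of (hP p hp) (hP r hr) (hpq'.trans hqr').ne (dv_spec hpm) (dv_spec hrm) hχ⟩

/-- Connectedness from cuts. -/
theorem conn_of_cut (V : Set ℕ) (p : ℕ) (hpV : p ∈ V)
    (h : ∀ A : Set ℕ, p ∈ A → (∃ b ∈ V, b ∉ A) → A ⊆ V → ∃ a ∈ A, ∃ b ∈ V, b ∉ A ∧ (degreeGraph S).Adj a b) :
    ((degreeGraph S).induce V).Connected := by
  let A : Set ℕ := {a | ∃ ha : a ∈ V, ((degreeGraph S).induce V).Reachable ⟨p, hpV⟩ ⟨a, ha⟩}
  have hA : ∀ b ∈ V, b ∈ A := by
    by_contra hc
    push Not at hc
    obtain ⟨a, ⟨ha, hr⟩, b, hb, hbA, hab⟩ := h A ⟨hpV, SimpleGraph.Reachable.refl _⟩ hc fun a ha => ha.1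
    exact hbA ⟨hb, hr.trans (SimpleGraph.Adj.reachable (by simpa using hab))⟩
  have : Nonempty V := ⟨⟨p, hpV⟩⟩
  refine SimpleGraph.Connected.mk fun a b => ?_
  obtain ⟨_, ha⟩ := hA a a.2
  obtain ⟨_, hb⟩ := hA b b.2
  exact ha.symm.trans hb

theorem conn_of_ord (hP : ∀ p ∈ P, p.Prime) (hnd : P.Nodup) (hE : ∀ c ∈ E, Cl S c) {p : ℕ} {P' : List ℕ}
    (hPP : P = p :: P') (h : chkOrd E [p] P' = true) (hV : ∀ q, q ∈ degreePrimes S ↔ q ∈ P) :
    ((degreeGraph S).induce (degreePrimes S)).Connected := by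
  have hpV : p ∈ degreePrimes S := by rw [hV, hPP]; exact List.mem_cons_self
  have key : ∀ (L a : List ℕ), chkOrd E a L = true → (∀ q ∈ a, q ∈ P) → (∀ q ∈ L, q ∈ P) → (a.reverse ++ L).Nodup →
      (∀ q ∈ a, ∃ hq : q ∈ degreePrimes S, ((degreeGraph S).induce (degreePrimes S)).Reachable ⟨p, hpV⟩ ⟨q, hq⟩) →
      ∀ q ∈ L, ∃ hq : q ∈ degreePrimes S, ((degreeGraph S).induce (degreePrimes S)).Reachable ⟨p, hpV⟩ ⟨q, hq⟩ := by
    intro L
    induction L with
    | nil => intro a _ _ _ _ _ q hq; simp at hq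
    | cons r L ih =>
      intro a hchk ha hL hnd hreach
      rw [chkOrd, Bool.and_eq_true, List.any_eq_true] at hchk
      obtain ⟨⟨q, hq, hqr⟩, hrest⟩ := hchk
      have hrP : r ∈ P := hL r List.mem_cons_self
      have hrV : r ∈ degreePrimes S := (hV r).2 hrP
      have hqr' : r ≠ q := by
        rintro rfl
        rw [List.nodup_append] at hnd
        exact hnd.2.2 r (List.mem_reverse.2 hq) r List.mem_cons_self rfl
      obtain ⟨m, hm, hχ⟩ := some_spec hE hqr
      have hd := dv_spec hm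
      have hadj : Adj q r S := adj_of (hP q (ha q hq)) (hP r hrP) hqr'.symm ((dvd_mul_left _ _).trans hd)
        ((dvd_mul_right _ _).trans hd) hχ
      obtain ⟨hqV, hqreach⟩ := hreach q hq
      have hr : ∃ hq : r ∈ degreePrimes S,
          ((degreeGraph S).induce (degreePrimes S)).Reachable ⟨p, hpV⟩ ⟨r, hq⟩ :=
        ⟨hrV, hqreach.trans (SimpleGraph.Adj.reachable (by simpa using (show (degreeGraph S).Adj q r from hadj)))⟩
      intro q' hq'
      rcases List.mem_cons.1 hq' with rfl | hq'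
      · exact hr
      · refine ih (r :: a) hrest ?_ (fun q hq => hL q (List.mem_cons_of_mem _ hq)) ?_ ?_ q' hq'
        · intro q hq
          rcases List.mem_cons.1 hq with rfl | hq
          · exact hrP
          · exact ha q hq
        · simpa using hnd
        · intro q hq
          rcases List.mem_cons.1 hq with rfl | hq
          · exact hr
          · exact hreach q hq
  refine conn_of_cut _ p hpV fun A hpA ⟨b, hb, hbA⟩ hAV => ?_
  -- everything is reachable; find an edge leaving `A`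
  by_contra hc
  push Not at hc
  have hcl : ∀ (x y : ↥(degreePrimes S)), ((degreeGraph S).induce (degreePrimes S)).Reachable x y → (x : ℕ) ∈ A →
      (y : ℕ) ∈ A := by
    rintro x y ⟨w⟩
    induction w with
    | nil => exact id
    | cons hadj _ ih =>
      intro hx
      refine ih ?_
      by_contra hy
      exact hc _ hx _ (Subtype.coe_prop _) hy (by simpa using hadj)
  have hall := key P' [p] h (by intro q hq; rw [List.mem_singleton.1 hq, hPP]; exact List.mem_cons_self)
    (by intro q hq; rw [hPP]; exact List.mem_cons_of_mem _ hq) (by simpa [hPP] using hnd)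
    (by intro q hq; rw [List.mem_singleton] at hq; subst hq; exact ⟨hpV, SimpleGraph.Reachable.refl _⟩)
  rw [hV, hPP] at hb
  rcases List.mem_cons.1 hb with rfl | hb
  · exact hbA hpA
  · obtain ⟨hbV, hreach⟩ := hall b hb
    exact hbA (hcl _ _ hreach hpA)

theorem conn_of_chkCut (hP : ∀ p ∈ P, p.Prime) (hE : ∀ c ∈ E, Cl S c) (h : chkCut P E = true)
    (hV : ∀ q, q ∈ degreePrimes S ↔ q ∈ P) (hnd : P.Nodup) :
    ((degreeGraph S).induce (degreePrimes S)).Connected := by
  classical
  rcases P with _ | ⟨p, P'⟩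
  · simp [chkCut] at h
  have hpV : p ∈ degreePrimes S := by rw [hV]; exact List.mem_cons_self
  rw [chkCut, List.all_eq_true] at h
  refine conn_of_cut _ p hpV fun A hpA ⟨b, hb, hbA⟩ hAV => ?_
  have hsub : (P'.filter (· ∈ A)) ∈ P'.sublists := List.mem_sublists.2 List.filter_sublist
  have h1 := h _ hsub
  have hbP : b ∈ P' := by
    rw [hV] at hb
    rcases List.mem_cons.1 hb with rfl | hb
    · exact absurd hpA hbA
    · exact hb
  have hlen : Nat.beq (P'.filter (· ∈ A)).length P'.length = false := by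
    rw [Bool.eq_false_iff]
    intro h2
    have h3 := Nat.eq_of_beq_eq_true h2
    have h4 := List.length_filter_eq_length_iff.1 h3 b hbP
    exact hbA (by simpa using h4)
  rw [hlen, Bool.false_or] at h1
  obtain ⟨m, hm, hχ⟩ := some_spec hE h1
  rw [Bool.and_eq_true, List.any_eq_true, List.any_eq_true] at hm
  obtain ⟨⟨a, ha, ham⟩, c, hc, hcm⟩ := hm
  rw [Bool.and_eq_true] at hcm
  obtain ⟨hcA, hcm⟩ := hcm
  have haA : a ∈ A := by
    rcases List.mem_cons.1 ha with rfl | ha
    · exact hpA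
    · simpa using (List.mem_filter.1 ha).2
  have hcA' : c ∉ A := by
    intro hcA'
    have h5 : c ∈ P'.filter (· ∈ A) := List.mem_filter.2 ⟨hc, by simpa using hcA'⟩
    have h6 : (P'.filter (· ∈ A)).contains c = true := List.contains_iff_mem.2 h5
    rw [h6] at hcA
    exact Bool.false_ne_true hcA
  refine ⟨a, haA, c, (hV c).2 (List.mem_cons_of_mem _ hc), hcA', ?_⟩
  have hac : a ≠ c := fun e => hcA' (e ▸ haA)
  exact adj_of (hP a ((hV a).1 (hAV haA))) (hP c (List.mem_cons_of_mem _ hc)) hac (dv_spec ham) (dv_spec hcm) hχ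

/-- **The graph facts from clauses.** -/
theorem facts [Finite S] (P : List ℕ) (hP : (P.all fun p => Nat.Prime p) = true) (hnd : P.Nodup)
    (hS : ∀ p, p.Prime → p ∣ Nat.card S → p ∈ P) (E : List (List ℕ)) (hE : ∀ c ∈ E, Cl S c)
    (h1 : chkIM P E = true) (h2 : chkInd P E = true) (h3 : chkTri P E = true)
    (h4 : (chkOrd E [P.headD 0] P.tail || chkCut P E) = true) (h5 : P ≠ []) : GraphFacts S := by
  have hP' : ∀ p ∈ P, p.Prime := by
    intro p hp
    have := List.all_eq_true.1 hP p hp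
    simpa using this
  have hV := mem_of_chk hP' hS hE h1
  refine ⟨?_, ?_, tri_of_chk hP' hE h3⟩
  · rw [Bool.or_eq_true] at h4
    rcases h4 with h4 | h4
    · rcases P with _ | ⟨p, P'⟩
      · exact absurd rfl h5
      · exact conn_of_ord hP' hnd hE rfl h4 hV
    · exact conn_of_chkCut hP' hE h4 hV hnd
  · intro p hp q hq r hr
    exact ind_of_chk hP' hE h2 p ((hV p).1 hp) q ((hV q).1 hq) r ((hV r).1 hr)

end

end Cfsg.Agent.H653.Graph
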