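import Cfsg.Agent.SmallSimple.DegreeData

/-!
# The sieve for character degrees: the check (helper653)

A *column* is a function `W : IrrCharacter G → ℤ` with known sum of squares, orthogonal to the degrees and to the
other columns, with finitely many possible values, whose values determine the degrees modulo a number.

`exists_of_check` : a certificate (a quadratic form in the degree and the columns, nonnegative at all the
admissible values not satisfying `Q`, with small total) shows that some nonprincipal irreducible character has a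
degree satisfying `Q`. The certificates are found by linear programming, the check is done by the kernel.
-/

set_option autoImplicit false

open Cfsg

namespace Cfsg.Agent.H653.Sieve

open Cfsg.Agent.Characters.Core

universe u

/-- The parameters of a column. -/
structure Par where
  /-- the modulus -/
  l : ℕ
  /-- the admissible pairs (residue of the degree, value of the column) -/
  wl : List (ℕ × ℤ)
  /-- the sum of the squares -/
  s : ℤ
  /-- the number of values `1`, `-1` (if `b`) -/
  c : ℤ
  /-- is the number known? -/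
  b : Bool
  /-- the value at the principal character -/
  w : ℤ

/-- The coefficients of a column in a certificate. -/
structure Cf where
  g : ℤ
  q : ℤ
  r : ℤ
  x : List ℤ

def dot : List ℤ → List ℤ → ℤ
  | a :: as, w :: ws => a * w + dot as ws
  | _, _ => 0

def quad (d : ℤ) : List Cf → List ℤ → ℤ
  | c :: cs, w :: ws => c.g * w * d + c.q * w * w + c.r * (bif Nat.beq w.natAbs 1 then 1 else 0) + w * dot c.x ws +
      quad d cs ws
  | _, _ => 0

def tot : List Cf → List Par → ℤ
  | c :: cs, p :: ps => c.q * p.s + c.r * p.c + tot cs ps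
  | _, _ => 0

def flagOK : List Cf → List Par → Bool
  | c :: cs, p :: ps => (p.b || decide (c.r = 0)) && flagOK cs ps
  | _, _ => true

def exSum (d : ℕ) : List ((ℕ → Bool) × ℕ) → ℤ
  | [] => 0
  | (P, m) :: L => (bif P d then (m : ℤ) else 0) + exSum d L

def exTot : List ((ℕ → Bool) × ℕ) → ℤ
  | [] => 0
  | (_, m) :: L => (m : ℤ) + exTot L

def allW : List Par → ℕ → (List ℤ → Bool) → Bool
  | [], _, k => k []
  | p :: ps, d, k => p.wl.all fun rw => bif Nat.beq (d % p.l) rw.1 then allW ps d (fun ws => k (rw.2 :: ws)) else true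

def allPow (N : ℕ) (f : ℕ → Bool) (p : ℕ) : ℕ → ℕ → Bool
  | 0, d => f d
  | a + 1, d => bif Nat.ble N (d * d) then true else (f d && allPow N f p a (d * p))

def allDiv (N : ℕ) (f : ℕ → Bool) : List (ℕ × ℕ) → ℕ → Bool
  | [], d => f d
  | (p, a) :: L, d => allPow N (allDiv N f L) p a d

def facProd : List (ℕ × ℕ) → ℕ
  | [] => 1
  | (p, a) :: L => p ^ a * facProd L

def okD (N : ℕ) (a : ℤ) (cs : List Cf) (ex : List ((ℕ → Bool) × ℕ)) (ps : List Par) (Q : ℕ → Bool) (d : ℕ) : Bool :=
  bif Nat.ble N (d * d) then true else bif Nat.beq d 1 then true else bif Q d then true else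
    allW ps d fun ws => decide (0 ≤ a * d * d + quad d cs ws - exSum d ex)

def certOK (N : ℕ) (a : ℤ) (cs : List Cf) (ex : List ((ℕ → Bool) × ℕ)) (ps : List Par) : Bool :=
  flagOK cs ps && decide (a * N + tot cs ps - exTot ex < a + quad 1 cs (ps.map Par.w) - exSum 1 ex)

/-! ### The check functions -/

theorem allPow_spec {N : ℕ} {f : ℕ → Bool} {p : ℕ} (hp : 0 < p) : ∀ {a d : ℕ}, allPow N f p a d = true →
    ∀ i, i ≤ a → (d * p ^ i) * (d * p ^ i) < N → f (d * p ^ i) = true
  | 0, d, h, i, hi, _ => by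
    obtain rfl : i = 0 := by omega
    simpa [allPow] using h
  | a + 1, d, h, i, hi, hN => by
    have h1 : d * d < N := by
      refine lt_of_le_of_lt ?_ hN
      have : d ≤ d * p ^ i := Nat.le_mul_of_pos_right d (Nat.pow_pos hp)
      exact Nat.mul_le_mul this this
    have h2 : Nat.ble N (d * d) = false := by
      rw [Bool.eq_false_iff]
      intro h3
      exact absurd (Nat.le_of_ble_eq_true h3) (by omega)
    rw [allPow, h2, cond_false, Bool.and_eq_true] at h
    rcases i with _ | i
    · simpa using h.1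
    · have h3 := allPow_spec hp h.2 i (by omega) (by
        have e : d * p * p ^ i = d * p ^ (i + 1) := by rw [pow_succ]; ring
        rw [e]; exact hN)
      have e : d * p * p ^ i = d * p ^ (i + 1) := by rw [pow_succ]; ring
      rwa [e] at h3

theorem allDiv_spec {N : ℕ} {f : ℕ → Bool} : ∀ {L : List (ℕ × ℕ)}, (∀ pa ∈ L, pa.1.Prime) → ∀ {d : ℕ},
    allDiv N f L d = true → ∀ m, m ∣ facProd L → (d * m) * (d * m) < N → f (d * m) = true
  | [], _, d, h, m, hm, _ => by
    obtain rfl : m = 1 := Nat.dvd_one.1 hm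
    simpa [allDiv] using h
  | (p, a) :: L, hL, d, h, m, hm, hN => by
    have hp : p.Prime := hL _ List.mem_cons_self
    obtain ⟨x, y, hx, hy, rfl⟩ := (Nat.dvd_mul).1 hm
    obtain ⟨i, hi, rfl⟩ := (Nat.dvd_prime_pow hp).1 hx
    have hy0 : 0 < y ∨ y = 0 := by omega
    rcases hy0 with hy0 | rfl
    · have h1 : (d * p ^ i) * (d * p ^ i) < N := by
        refine lt_of_le_of_lt ?_ hN
        have : d * p ^ i ≤ d * (p ^ i * y) := by
          rw [← mul_assoc]; exact Nat.le_mul_of_pos_right _ hy0
        exact Nat.mul_le_mul this this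
      have h2 := allPow_spec (f := allDiv N f L) hp.pos h i hi h1
      have e1 : d * p ^ i * y = d * (p ^ i * y) := mul_assoc _ _ _
      have h3 := allDiv_spec (fun pa hpa => hL pa (List.mem_cons_of_mem _ hpa)) h2 y hy (by rwa [e1])
      rwa [e1] at h3
    · exfalso
      have h0 : ∀ L' : List (ℕ × ℕ), (∀ pa ∈ L', pa.1.Prime) → facProd L' ≠ 0 := by
        intro L'
        induction L' with
        | nil => intro _; simp [facProd]
        | cons q L' ih =>
          intro hq
          rw [facProd]
          exact mul_ne_zero (pow_ne_zero _ (hq q List.mem_cons_self).ne_zero)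
            (ih fun pa hpa => hq pa (List.mem_cons_of_mem _ hpa))
      exact h0 L (fun pa hpa => hL pa (List.mem_cons_of_mem _ hpa)) (zero_dvd_iff.1 hy)

theorem allW_spec {d : ℕ} : ∀ {ps : List Par} {k : List ℤ → Bool}, allW ps d k = true → ∀ {ws : List ℤ},
    List.Forall₂ (fun (p : Par) (w : ℤ) => (d % p.l, w) ∈ p.wl) ps ws → k ws = true
  | [], k, h, ws, hw => by
    cases hw
    simpa [allW] using h
  | p :: ps, k, h, ws, hw => by
    cases hw with
    | cons h1 h2 =>
      rename_i w ws
      rw [allW, List.all_eq_true] at h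
      have h3 := h _ h1
      have h4 : Nat.beq (d % p.l) (d % p.l) = true := Nat.beq_refl _
      rw [h4, cond_true] at h3
      exact allW_spec h3 h2

/-! ### Columns -/

section

variable {G : Type u} [Group G] [Fintype (IrrCharacter G)]

/-- The degree. -/
noncomputable def deg (χ : IrrCharacter G) : ℕ := charDegree (χ : G → ℂ)

/-- `W` is a column with the parameters `p`. -/
structure ColOK (p : Par) (W : IrrCharacter G → ℤ) : Prop where
  mem : ∀ χ, (deg χ % p.l, W χ) ∈ p.wl
  deg : ∑ χ : IrrCharacter G, W χ * (deg χ : ℤ) = 0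
  sq : ∑ χ : IrrCharacter G, W χ * W χ = p.s
  cnt : p.b = true → ∑ χ : IrrCharacter G, (bif Nat.beq (W χ).natAbs 1 then (1 : ℤ) else 0) = p.c
  one : ∀ χ : IrrCharacter G, (χ : G → ℂ) = 1 → W χ = p.w

/-- Two orthogonal columns. -/
def Orth (W W' : IrrCharacter G → ℤ) : Prop := ∑ χ : IrrCharacter G, W χ * W' χ = 0

theorem sum_dot {W : IrrCharacter G → ℤ} : ∀ (xs : List ℤ) {Ws : List (IrrCharacter G → ℤ)},
    (∀ W' ∈ Ws, Orth W W') → ∑ χ : IrrCharacter G, W χ * dot xs (Ws.map fun W' => W' χ) = 0
  | [], Ws, _ => by simp [dot]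
  | x :: xs, [], _ => by simp [dot]
  | x :: xs, W' :: Ws, h => by
    have h1 := sum_dot xs (Ws := Ws) fun W'' hW => h W'' (List.mem_cons_of_mem _ hW)
    have h2 : ∑ χ : IrrCharacter G, W χ * W' χ = 0 := h W' List.mem_cons_self
    have h3 : ∀ χ : IrrCharacter G, W χ * dot (x :: xs) ((W' :: Ws).map fun W' => W' χ) =
        x * (W χ * W' χ) + W χ * dot xs (Ws.map fun W' => W' χ) := by
      intro χ
      rw [List.map_cons, dot]
      ring
    rw [Finset.sum_congr rfl fun χ _ => h3 χ, Finset.sum_add_distrib, h1, ← Finset.mul_sum, h2]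
    ring

theorem sum_quad : ∀ {cs : List Cf} {ps : List Par} {Ws : List (IrrCharacter G → ℤ)}, flagOK cs ps = true →
    List.Forall₂ ColOK ps Ws → Ws.Pairwise Orth →
    ∑ χ : IrrCharacter G, quad (deg χ) cs (Ws.map fun W => W χ) = tot cs ps
  | [], ps, Ws, _, _, _ => by simp [quad, tot]
  | c :: cs, [], _, _, .nil, _ => by simp [quad, tot]
  | c :: cs, p :: ps, W :: Ws, hf, .cons h1 h2, ho => by
    rw [flagOK, Bool.and_eq_true, Bool.or_eq_true, decide_eq_true_eq] at hf
    rw [List.pairwise_cons] at ho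
    have ih := sum_quad hf.2 h2 ho.2
    have h3 := sum_dot (W := W) c.x ho.1
    have h4 : ∀ χ : IrrCharacter G, quad (deg χ) (c :: cs) ((W :: Ws).map fun W => W χ) =
        c.g * (W χ * deg χ) + c.q * (W χ * W χ) + c.r * (bif Nat.beq (W χ).natAbs 1 then 1 else 0) +
          W χ * dot c.x (Ws.map fun W => W χ) + quad (deg χ) cs (Ws.map fun W => W χ) := by
      intro χ
      rw [List.map_cons, quad]
      ring
    rw [Finset.sum_congr rfl fun χ _ => h4 χ]
    simp only [Finset.sum_add_distrib, ← Finset.mul_sum]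
    rw [ih, h3, h1.deg, h1.sq, tot]
    rcases hf.1 with h5 | h5
    · rw [h1.cnt h5]; ring
    · rw [h5]; ring

theorem exSum_le {ex : List ((ℕ → Bool) × ℕ)} (hex : ∀ Pm ∈ ex, ∃ χ : IrrCharacter G, Pm.1 (deg χ) = true) :
    exTot ex ≤ ∑ χ : IrrCharacter G, exSum (deg χ) ex := by
  induction ex with
  | nil => simp [exTot, exSum]
  | cons Pm L ih =>
    obtain ⟨P, m⟩ := Pm
    have h1 := ih fun Pm hPm => hex Pm (List.mem_cons_of_mem _ hPm)
    obtain ⟨χ₀, h0⟩ := hex (P, m) List.mem_cons_self
    have h2 : (m : ℤ) ≤ ∑ χ : IrrCharacter G, (bif P (deg χ) then (m : ℤ) else 0) := by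
      have h3 := Finset.single_le_sum (f := fun χ : IrrCharacter G => (bif P (deg χ) then (m : ℤ) else 0))
        (fun χ _ => by cases P (deg χ) <;> simp) (Finset.mem_univ χ₀)
      have h4 : P (deg χ₀) = true := h0
      simp only [h4, cond_true] at h3
      exact h3
    have h5 : ∑ χ : IrrCharacter G, exSum (deg χ) ((P, m) :: L) =
        ∑ χ : IrrCharacter G, (bif P (deg χ) then (m : ℤ) else 0) + ∑ χ : IrrCharacter G, exSum (deg χ) L := by
      rw [← Finset.sum_add_distrib]
      rfl
    rw [h5, exTot]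
    exact add_le_add h2 h1

/-- **The sieve.** -/
theorem exists_of_check [Finite G] (N : ℕ) (hN : Nat.card G = N) (L : List (ℕ × ℕ))
    (hL : (L.all fun pa => Nat.Prime pa.1) = true) (hLN : facProd L = N)
    (hone : ∀ χ : IrrCharacter G, deg χ = 1 → (χ : G → ℂ) = 1)
    {ps : List Par} {Ws : List (IrrCharacter G → ℤ)} (hp : List.Forall₂ ColOK ps Ws) (ho : Ws.Pairwise Orth)
    (ex : List ((ℕ → Bool) × ℕ)) (hex : ∀ Pm ∈ ex, ∃ χ : IrrCharacter G, Pm.1 (deg χ) = true)
    (a : ℤ) (cs : List Cf) (Q : ℕ → Bool) (h1 : certOK N a cs ex ps = true)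
    (h2 : allDiv N (okD N a cs ex ps Q) L 1 = true) :
    ∃ χ : IrrCharacter G, (χ : G → ℂ) ≠ 1 ∧ Q (deg χ) = true := by
  classical
  rw [certOK, Bool.and_eq_true, decide_eq_true_eq] at h1
  obtain ⟨hflag, h1⟩ := h1
  by_contra hno
  push Not at hno
  have := Fintype.ofFinite G
  obtain ⟨χ₁, hχ₁⟩ : ∃ χ : IrrCharacter G, (χ : G → ℂ) = 1 := ⟨⟨1, isIrr_one⟩, rfl⟩
  have hd1 : deg χ₁ = 1 := by
    unfold deg charDegree
    rw [hχ₁]
    simp
  -- the sum of the squares
  have hsq : ∑ χ : IrrCharacter G, (deg χ : ℤ) * deg χ = N := by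
    have h3 := SmallSimple.DegreeData.sum_sq (G := G)
    rw [← hN]
    rw [← h3]
    push_cast
    refine Finset.sum_congr rfl fun χ _ => ?_
    unfold deg
    ring
  have hF : ∑ χ : IrrCharacter G, (a * deg χ * deg χ + quad (deg χ) cs (Ws.map fun W => W χ) - exSum (deg χ) ex) ≤
      a * N + tot cs ps - exTot ex := by
    rw [Finset.sum_sub_distrib, Finset.sum_add_distrib, sum_quad hflag hp ho]
    have h3 : ∑ χ : IrrCharacter G, a * (deg χ : ℤ) * deg χ = a * N := by
      rw [← hsq, Finset.mul_sum]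
      exact Finset.sum_congr rfl fun χ _ => by ring
    rw [h3]
    have := exSum_le hex
    linarith
  -- all the terms but the first are nonnegative
  have hpos : ∀ χ : IrrCharacter G, χ ≠ χ₁ →
      0 ≤ a * deg χ * deg χ + quad (deg χ) cs (Ws.map fun W => W χ) - exSum (deg χ) ex := by
    intro χ hχ
    have hχ1 : (χ : G → ℂ) ≠ 1 := fun h => hχ (Subtype.ext (h.trans hχ₁.symm))
    have hdvd : deg χ ∣ facProd L := by
      rw [hLN, ← hN]
      exact Blocks.Knorr.charDegree_dvd χ.2
    have hlt : deg χ * deg χ < N := by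
      have h3 : (deg χ : ℤ) * deg χ + (deg χ₁ : ℤ) * deg χ₁ ≤ N := by
        rw [← hsq]
        have h4 : ∑ χ' ∈ ({χ, χ₁} : Finset (IrrCharacter G)), (deg χ' : ℤ) * deg χ' ≤
            ∑ χ' : IrrCharacter G, (deg χ' : ℤ) * deg χ' :=
          Finset.sum_le_sum_of_subset_of_nonneg (Finset.subset_univ _) fun χ' _ _ => by positivity
        rwa [Finset.sum_pair hχ] at h4
      rw [hd1] at h3
      have : ((deg χ * deg χ : ℕ) : ℤ) < N := by push_cast at h3 ⊢; linarith
      exact_mod_cast this
    have hpr : ∀ pa ∈ L, pa.1.Prime := by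
      intro pa hpa
      have := List.all_eq_true.1 hL pa hpa
      simpa using this
    have h3 := allDiv_spec hpr h2 (deg χ) hdvd (by rwa [one_mul])
    rw [one_mul] at h3
    have h4 : Nat.ble N (deg χ * deg χ) = false := by
      rw [Bool.eq_false_iff]
      intro h5
      exact absurd (Nat.le_of_ble_eq_true h5) (by omega)
    have h5 : Nat.beq (deg χ) 1 = false := by
      rw [Bool.eq_false_iff]
      intro h6
      exact hχ1 (hone χ (Nat.eq_of_beq_eq_true h6))
    have h6 : Q (deg χ) = false := by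
      rw [Bool.eq_false_iff]
      exact hno χ hχ1
    rw [okD, h4, cond_false, h5, cond_false, h6, cond_false] at h3
    have h7 : List.Forall₂ (fun (p : Par) (w : ℤ) => (deg χ % p.l, w) ∈ p.wl) ps (Ws.map fun W => W χ) := by
      clear * - hp
      induction hp with
      | nil => exact .nil
      | cons h1 _ ih => exact .cons (h1.mem χ) ih
    have h8 := allW_spec h3 h7
    simpa using h8
  have hval : a * (deg χ₁ : ℤ) * deg χ₁ + quad (deg χ₁) cs (Ws.map fun W => W χ₁) - exSum (deg χ₁) ex =
      a + quad 1 cs (ps.map Par.w) - exSum 1 ex := by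
    have h3 : (Ws.map fun W => W χ₁) = ps.map Par.w := by
      clear * - hp hχ₁
      induction hp with
      | nil => rfl
      | cons h1 _ ih => rw [List.map_cons, List.map_cons, ih, h1.one χ₁ hχ₁]
    rw [h3, hd1]
    push_cast
    ring
  have hge : a * (deg χ₁ : ℤ) * deg χ₁ + quad (deg χ₁) cs (Ws.map fun W => W χ₁) - exSum (deg χ₁) ex ≤
      ∑ χ : IrrCharacter G, (a * deg χ * deg χ + quad (deg χ) cs (Ws.map fun W => W χ) - exSum (deg χ) ex) := by
    rw [← Finset.add_sum_erase _ _ (Finset.mem_univ χ₁)]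
    have : 0 ≤ ∑ χ ∈ Finset.univ.erase χ₁,
        (a * (deg χ : ℤ) * deg χ + quad (deg χ) cs (Ws.map fun W => W χ) - exSum (deg χ) ex) :=
      Finset.sum_nonneg fun χ hχ => hpos χ (Finset.ne_of_mem_erase hχ)
    linarith
  rw [hval] at hge
  linarith

end

end Cfsg.Agent.H653.Sieve
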