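import Cfsg.Agent.H590.NB.Fast
import Cfsg.Agent.H653.Sieve.Dist

/-!
# A fast joint check of several clauses with conditions (helper653, after helper590)

The residues of the degree modulo the primes of the columns are tested first (bit masks), and the divisors of the group
order are enumerated once for all the clauses.
-/

set_option autoImplicit false
set_option linter.unusedSectionVars false

namespace Cfsg.Agent.H653.Fast

open Cfsg Cfsg.Agent.Characters.Core Cfsg.Agent.H653.Sys Cfsg.Agent.H653.Sieve Cfsg.Agent.H653.Graph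
open Cfsg.Agent.H590.NB.Fast (bit pre maskOK allV_of_empty exists_empty)

universe u

/-- a certificate: the clause, and the coefficients -/
structure Cert where
  c : List ℕ
  a : ℤ
  cs : List Cf
  ms : List ℤ

def Cert.Q (ct : Cert) (d : ℕ) : Bool := ct.c.any fun m => Nat.beq (d % m) 0

def okAll (N : ℕ) (Fs : List Fam) (Cs : List Cond) (d : ℕ) : List Cert → Bool
  | [] => true
  | ct :: L => okD N ct.a ct.cs (exOf Cs ct.ms) Fs ct.Q d && okAll N Fs Cs d L

theorem okAll_spec {N : ℕ} {Fs : List Fam} {Cs : List Cond} {d : ℕ} : ∀ {L : List Cert}, okAll N Fs Cs d L = true →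
    ∀ ct ∈ L, okD N ct.a ct.cs (exOf Cs ct.ms) Fs ct.Q d = true
  | [], _, c, hc => by simp at hc
  | c' :: L, h, c, hc => by
    rw [okAll, Bool.and_eq_true] at h
    rcases List.mem_cons.1 hc with rfl | hc
    · exact h.1
    · exact okAll_spec h.2 c hc

/-- the check -/
def chkAll (N : ℕ) (L : List (ℕ × ℕ)) (Ds : List PD) (Cs : List Cond) (ms : List (ℕ × ℕ)) (cts : List Cert) : Bool :=
  allDiv N (fun d => bif pre ms d then okAll N (Ds.map PD.fam) Cs d cts else true) L 1

def headOK (N : ℕ) (Ds : List PD) (Cs : List Cond) (cts : List Cert) : Bool :=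
  cts.all fun ct => sgOK Cs ct.ms && certOK N ct.a ct.cs (exOf Cs ct.ms) (Ds.map PD.fam)

variable {S : Type u} [Group S] [Fintype (IrrCharacter S)] {lab : S → ℕ} {N : ℕ} {L : List (ℕ × ℕ)} {Cs : List Cond}

/-- **All the clauses at once.** -/
theorem cl_of_chkAll [Finite S] {Ds : List PD} (C : Ctx S lab N L (Ds.map PD.fam) Cs) {ms : List (ℕ × ℕ)}
    (hm : maskOK Ds ms = true) {cts : List Cert} (h1 : headOK N Ds Cs cts = true)
    (h2 : chkAll N L Ds Cs ms cts = true) : ∀ ct ∈ cts, Cl S ct.c := by
  intro ct hct
  obtain ⟨Ws, hs⟩ := C.sys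
  have hpr : ∀ pa ∈ L, pa.1.Prime := by
    intro pa hpa
    have := List.all_eq_true.1 C.pr pa hpa
    simpa using this
  have h0 := List.all_eq_true.1 h1 ct hct
  rw [Bool.and_eq_true] at h0
  obtain ⟨χ, h3, h4⟩ := exists_of_all C.conj C.lone N C.card C.one hs (exOf Cs ct.ms) (exOf_holds C.cond h0.1) ct.a ct.cs
    ct.Q h0.2 fun d hd hlt => by
      have h5 := allDiv_spec hpr h2 d (by rw [C.fac]; exact hd) (by rwa [one_mul])
      rw [one_mul] at h5
      cases hp : pre ms d with
      | true =>
        rw [hp, cond_true] at h5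
        exact okAll_spec h5 ct hct
      | false =>
        obtain ⟨F, hF, h6⟩ := exists_empty hm hp
        rw [H653.Sys.okD]
        cases Nat.ble N (d * d) with
        | true => rfl
        | false =>
          cases Nat.beq d 1 with
          | true => rfl
          | false =>
            rw [cond_false, cond_false]
            exact allV_of_empty hF h6 _
  rw [Cert.Q, List.any_eq_true] at h4
  obtain ⟨m, hmc, h4⟩ := h4
  exact ⟨m, hmc, χ, Nat.dvd_of_mod_eq_zero (Nat.eq_of_beq_eq_true h4)⟩

end Cfsg.Agent.H653.Fast
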